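import Mathlib
import Cfsg.Agent.Lib.RealChar.AltCover

/-!
In a perfect double cover of the alternating group, an element whose image has two two-cycles
anticommutes with some other element.
-/

set_option autoImplicit false
set_option linter.unusedSectionVars false

namespace CfsgLib.Classes.AltCoverComm

universe u

open scoped commutatorElement
open Equiv CfsgLib.RealChar.AltCover

variable {n : ℕ} {Γ : Type u} [Group Γ] [Finite Γ] {π : Γ →* alternatingGroup (Fin n)}

/-- Four distinct points. -/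
structure Four (p q r t : Fin n) : Prop where
  pq : p ≠ q
  pr : p ≠ r
  pt : p ≠ t
  qr : q ≠ r
  qt : q ≠ t
  rt : r ≠ t

theorem Four.disjoint {p q r t : Fin n} (h : Four p q r t) :
    Perm.Disjoint (swap p q) (swap r t) := by
  refine Perm.disjoint_iff_disjoint_support.mpr ?_
  rw [Perm.support_swap h.pq, Perm.support_swap h.rt]
  simp [h.pr, h.pr.symm, h.pt, h.pt.symm, h.qr, h.qr.symm, h.qt, h.qt.symm]

theorem Four.sign {p q r t : Fin n} (h : Four p q r t) : Perm.sign (swap p q * swap r t) = 1 := by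
  rw [map_mul, Perm.sign_swap h.pq, Perm.sign_swap h.rt]; rfl

theorem Four.sq {p q r t : Fin n} (h : Four p q r t) :
    swap p q * swap r t * (swap p q * swap r t) = 1 := by
  rw [h.disjoint.commute.symm.mul_mul_mul_comm]; simp

theorem Four.cycleType {p q r t : Fin n} (h : Four p q r t) :
    (swap p q * swap r t).cycleType = {2, 2} := by
  rw [h.disjoint.cycleType_mul, (Perm.IsCycle.cycleType (Perm.isCycle_swap h.pq)),
    (Perm.IsCycle.cycleType (Perm.isCycle_swap h.rt)), Perm.card_support_swap h.pq,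
    Perm.card_support_swap h.rt]
  rfl

theorem Four.prod {p q r t : Fin n} (h : Four p q r t) :
    swap p q * swap r t * (swap p r * swap q t) = swap p t * swap q r := by
  obtain ⟨h1, h2, h3, h4, h5, h6⟩ := h
  ext x
  congr 1
  simp only [Perm.mul_apply]
  by_cases xp : x = p
  · subst xp; simp [swap_apply_def, h1, h1.symm, h2, h2.symm, h3, h3.symm, h4, h4.symm, h5, h5.symm, h6, h6.symm]
  by_cases xq : x = q
  · subst xq; simp [swap_apply_def, h1, h1.symm, h2, h2.symm, h3, h3.symm, h4, h4.symm, h5, h5.symm, h6, h6.symm]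
  by_cases xr : x = r
  · subst xr; simp [swap_apply_def, h1, h1.symm, h2, h2.symm, h3, h3.symm, h4, h4.symm, h5, h5.symm, h6, h6.symm]
  by_cases xt : x = t
  · subst xt; simp [swap_apply_def, h1, h1.symm, h2, h2.symm, h3, h3.symm, h4, h4.symm, h5, h5.symm, h6, h6.symm]
  simp [swap_apply_def, xp, xq, xr, xt]

theorem Four.comm {p q r t : Fin n} (h : Four p q r t) :
    swap p q * swap r t * (swap p r * swap q t) = swap p r * swap q t * (swap p q * swap r t) := by
  rw [h.prod, Four.prod ⟨h.pr, h.pq, h.pt, h.qr.symm, h.rt, h.qt⟩, swap_comm q r]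

theorem exists_even_conj {p q r t p' q' r' t' : Fin n} (h : Four p q r t) (h' : Four p' q' r' t') :
    ∃ σ : Perm (Fin n), Perm.sign σ = 1 ∧
      σ * (swap p q * swap r t) * σ⁻¹ = swap p' q' * swap r' t' := by
  obtain ⟨σ, hσ⟩ := isConj_iff.mp (Perm.isConj_iff_cycleType_eq.mpr (h.cycleType.trans h'.cycleType.symm))
  rcases Int.units_eq_one_or (Perm.sign σ) with hs | hs
  · exact ⟨σ, hs, hσ⟩
  · refine ⟨σ * swap p q, by rw [map_mul, hs, Perm.sign_swap h.pq]; rfl, ?_⟩
    rw [← hσ, mul_inv_rev, swap_inv]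
    calc σ * swap p q * (swap p q * swap r t) * (swap p q * σ⁻¹)
        = σ * (swap p q * swap p q) * (swap r t * swap p q) * σ⁻¹ := by group
      _ = _ := by rw [swap_mul_self, mul_one, h.disjoint.commute.symm.eq]

section

variable (hs : Function.Surjective π) (hc : π.ker ≤ Subgroup.center Γ) (h2 : Nat.card π.ker = 2)

include h2 in
theorem ker_sq {z : Γ} (hz : π z = 1) : z * z = 1 := by
  have h := pow_card_eq_one' (x := (⟨z, hz⟩ : π.ker))
  rw [h2, pow_two] at h
  exact congrArg Subtype.val h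

include h2 in
theorem ker_cases {z w : Γ} (hz : π z = 1) (hz1 : z ≠ 1) (hw : π w = 1) : w = 1 ∨ w = z := by
  obtain ⟨a, b, hab, huniv⟩ := Nat.card_eq_two_iff.mp h2
  have key : ∀ x : π.ker, x = a ∨ x = b := fun x => by
    have : x ∈ ({a, b} : Set π.ker) := huniv ▸ Set.mem_univ x
    simpa using this
  rcases key 1 with e1 | e1 <;> rcases key ⟨z, hz⟩ with e2 | e2 <;>
    rcases key ⟨w, hw⟩ with e3 | e3
  all_goals first
    | exact absurd (congrArg Subtype.val (e2.trans e1.symm)) hz1
    | exact Or.inl (congrArg Subtype.val (e3.trans e1.symm))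
    | exact Or.inr (congrArg Subtype.val (e3.trans e2.symm))

include hs in
theorem exists_lift {σ : Perm (Fin n)} (hσ : Perm.sign σ = 1) : ∃ A : Γ, (π A : Perm (Fin n)) = σ := by
  obtain ⟨A, hA⟩ := hs ⟨σ, Perm.mem_alternatingGroup.mpr hσ⟩
  exact ⟨A, congrArg Subtype.val hA⟩

theorem map_eq_one {z : Γ} (h : (π z : Perm (Fin n)) = 1) : π z = 1 := Subtype.ext h

include hc in
theorem central {z : Γ} (h : π z = 1) (g : Γ) : g * z = z * g :=
  Subgroup.mem_center_iff.mp (hc (MonoidHom.mem_ker.mpr h)) g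

include hc h2 in
theorem sq_eq_of_eq {A B : Γ} (h : (π A : Perm (Fin n)) = π B) : A * A = B * B := by
  have hk : π (B⁻¹ * A) = 1 := by rw [map_mul, map_inv, Subtype.ext h]; group
  have hsq := ker_sq h2 hk
  have hA : A = B * (B⁻¹ * A) := by group
  conv_lhs => rw [hA]
  rw [mul_assoc B, ← mul_assoc (B⁻¹ * A) B, ← central hc hk B, mul_assoc B (B⁻¹ * A), hsq, mul_one]

include hs hc h2 in
theorem sq_four {p q r t p' q' r' t' : Fin n} (h : Four p q r t) (h' : Four p' q' r' t') {A B : Γ}
    (hA : (π A : Perm (Fin n)) = swap p q * swap r t)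
    (hB : (π B : Perm (Fin n)) = swap p' q' * swap r' t') : A * A = B * B := by
  obtain ⟨σ, hσ, hσc⟩ := exists_even_conj h h'
  obtain ⟨G, hG⟩ := exists_lift hs hσ
  rw [sq_eq_of_eq hc h2 (A := B) (B := G * A * G⁻¹) (by
    rw [map_mul, map_mul, map_inv, Subgroup.coe_mul, Subgroup.coe_mul, Subgroup.coe_inv, hG, hA,
      hσc, hB])]
  have hk : π (A * A) = 1 := map_eq_one (by rw [map_mul, Subgroup.coe_mul, hA, h.sq])
  rw [show G * A * G⁻¹ * (G * A * G⁻¹) = G * (A * A) * G⁻¹ by group, central hc hk G,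
    mul_inv_cancel_right]

include hs hc h2 in
theorem sq_ne_one (hperf : commutator Γ = ⊤) {p q r t : Fin n} (h : Four p q r t) {A : Γ}
    (hA : (π A : Perm (Fin n)) = swap p q * swap r t) : A * A ≠ 1 := by
  classical
  intro hA1
  let I := {i : Fin n // i ≠ p ∧ i ≠ q}
  have hl : ∀ i : I, ∃ l : Γ, (π l : Perm (Fin n)) = cyc p q i.1 := fun i =>
    exists_lift hs (Perm.mem_alternatingGroup.mp (cyc_mem p q i.1 h.pq i.2.1.symm))
  choose l hl using hl
  let X : I → Γ := fun i => l i ^ 4
  have hX : ∀ i, (π (X i) : Perm (Fin n)) = cyc p q i.1 := fun i => by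
    simp only [X, map_pow, Subgroup.coe_pow, hl]
    rw [pow_succ, cyc_pow_three p q i.1 h.pq i.2.2.symm i.2.1.symm, one_mul]
  have h3 : ∀ i, X i ^ 3 = 1 := fun i => by
    have hk : π (l i ^ 3) = 1 := map_eq_one (by
      rw [map_pow, Subgroup.coe_pow, hl, cyc_pow_three p q i.1 h.pq i.2.2.symm i.2.1.symm])
    have := ker_sq h2 hk
    rw [← pow_two, ← pow_mul] at this
    simp only [X, ← pow_mul]
    rw [show 4 * 3 = 3 * 2 * 2 from rfl, pow_mul, this, one_pow]
  have hsq : ∀ i j, i ≠ j → (X i * X j) ^ 2 = 1 := fun i j hij => by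
    have hij' : i.1 ≠ j.1 := fun e => hij (Subtype.ext e)
    have h4 : Four p i.1 q j.1 := ⟨i.2.1.symm, h.pq, j.2.1.symm, i.2.2, hij', j.2.2.symm⟩
    rw [pow_two, ← hA1]
    refine sq_four hs hc h2 h4 h ?_ hA
    rw [map_mul, Subgroup.coe_mul, hX, hX, cyc, cyc, mul_assoc]
    have := swap_apply_apply (swap p q) p j.1
    rw [swap_apply_left, swap_apply_of_ne_of_ne j.2.1 j.2.2, swap_inv] at this
    rw [this, ← mul_assoc (swap p q)]
  set L := Subgroup.closure (Set.range X) with hL
  have hsplit : ∀ g : Γ, ∃ a ∈ L, ∃ z, π z = 1 ∧ g = a * z := by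
    intro g
    have hmap : L.map ((alternatingGroup (Fin n)).subtype.comp π) =
        Subgroup.closure (Set.range fun i : I => cyc p q i.1) := by
      rw [hL, MonoidHom.map_closure, ← Set.range_comp]
      exact congrArg Subgroup.closure (congrArg Set.range (funext hX))
    have hmem := mem_closure_cyc p q h.pq (π g : Perm (Fin n)) (π g).2
    rw [← hmap] at hmem
    obtain ⟨a, ha, hag⟩ := Subgroup.mem_map.mp hmem
    refine ⟨a, ha, a⁻¹ * g, ?_, by group⟩
    rw [map_mul, map_inv, show π g = π a from Subtype.ext hag.symm, inv_mul_cancel]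
  have hcomm : commutator Γ ≤ L := by
    rw [commutator_def, Subgroup.commutator_le]
    intro g _ g' _
    obtain ⟨a, ha, z, hz, rfl⟩ := hsplit g
    obtain ⟨b, hb, w, hw, rfl⟩ := hsplit g'
    have : ⁅a * z, b * w⁆ = ⁅a, b⁆ := by
      simp only [commutatorElement_def, mul_inv_rev]
      calc a * z * (b * w) * (z⁻¹ * a⁻¹) * (w⁻¹ * b⁻¹)
          = a * (z * b) * (w * (z⁻¹ * a⁻¹)) * (w⁻¹ * b⁻¹) := by group
        _ = a * (b * z) * ((z⁻¹ * a⁻¹) * w) * (w⁻¹ * b⁻¹) := by
          rw [central hc hz b, central hc hw (z⁻¹ * a⁻¹)]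
        _ = _ := by group
    rw [this, commutatorElement_def]
    exact L.mul_mem (L.mul_mem (L.mul_mem ha hb) (L.inv_mem ha)) (L.inv_mem hb)
  have htop : L = ⊤ := top_le_iff.mp (hperf ▸ hcomm)
  have hI : Nat.card I = n - 2 := by
    rw [Nat.card_eq_fintype_card, Fintype.card_subtype]
    have : (Finset.univ.filter fun i : Fin n => i ≠ p ∧ i ≠ q)
        = (Finset.univ.erase p).erase q := by
      ext i; simp [and_comm]
    rw [this, Finset.card_erase_of_mem (by simp [h.pq.symm]),
      Finset.card_erase_of_mem (Finset.mem_univ _), Finset.card_univ, Fintype.card_fin]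
    omega
  let ε : Fin (n - 2) ≃ I := (finCongr hI.symm).trans (Finite.equivFin I).symm
  have hq := presentation_card (n - 2) (fun i => X (ε i)) (fun i => h3 _)
    (fun i j hij => hsq _ _ fun e => hij (ε.injective e)) (by
      rw [show (fun i => X (ε i)) = X ∘ ε from rfl, Set.range_comp, ε.range_eq_univ, Set.image_univ]
      exact htop)
  have hn : 2 ≤ n := by
    by_contra hlt
    have hp := p.isLt
    have hq' := q.isLt
    exact h.pq (Fin.ext (by omega))
  haveI : Nontrivial (Fin n) := ⟨⟨p, q, h.pq⟩⟩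
  have halt : 2 * Nat.card (alternatingGroup (Fin n)) = n.factorial := by
    rw [two_mul_nat_card_alternatingGroup, Nat.card_perm, Nat.card_fin]
  rw [show n - 2 + 2 = n by omega, ← halt] at hq
  have hΓ : Nat.card Γ = Nat.card (alternatingGroup (Fin n)) * 2 := by
    rw [← π.ker.index_mul_card, Subgroup.index_ker, MonoidHom.range_eq_top.mpr hs, Subgroup.card_top, h2]
  have : 0 < Nat.card (alternatingGroup (Fin n)) := Nat.card_pos
  omega

include hs hc h2 in
theorem not_commute (hperf : commutator Γ = ⊤) {p q r t : Fin n} (h : Four p q r t) {D S : Γ}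
    (hD : (π D : Perm (Fin n)) = swap p q * swap r t)
    (hS : (π S : Perm (Fin n)) = swap p r * swap q t) : D * S ≠ S * D := by
  intro hcom
  have h' : Four p r q t := ⟨h.pr, h.pq, h.pt, h.qr.symm, h.rt, h.qt⟩
  have h'' : Four p t q r := ⟨h.pt, h.pq, h.pr, h.qt.symm, h.rt.symm, h.qr⟩
  have h3 : (π (D * S) : Perm (Fin n)) = swap p t * swap q r := by
    rw [map_mul, Subgroup.coe_mul, hD, hS, h.prod]
  have e2 := sq_four hs hc h2 h h' hD hS
  have e3 := sq_four hs hc h2 h h'' hD h3
  have hk : π (D * D) = 1 := map_eq_one (by rw [map_mul, Subgroup.coe_mul, hD, h.sq])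
  refine sq_ne_one hs hc h2 hperf h hD ?_
  rw [show D * S * (D * S) = D * D * (S * S) by
    rw [show D * S * (D * S) = D * (S * D) * S by group, ← hcom]; group, ← e2, ker_sq h2 hk] at e3
  exact e3

include hs hc h2 in
/-- An element whose image has two two-cycles anticommutes with some element. -/
theorem exists_anticommute (hperf : commutator Γ = ⊤) {z : Γ} (hz : π z = 1) (hz1 : z ≠ 1)
    {A : Γ} {p r : Fin n} (hp : (π A : Perm (Fin n)) p ≠ p)
    (hpp : (π A : Perm (Fin n)) ((π A : Perm (Fin n)) p) = p)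
    (hr : (π A : Perm (Fin n)) r ≠ r)
    (hrr : (π A : Perm (Fin n)) ((π A : Perm (Fin n)) r) = r)
    (hrp : r ≠ p) (hrp' : r ≠ (π A : Perm (Fin n)) p) :
    ∃ S : Γ, S * A = A * S * z := by
  classical
  set a : Perm (Fin n) := (π A : Perm (Fin n)) with ha
  have hpr' : p ≠ a r := fun h => hrp' (by rw [h, hrr])
  have h : Four p (a p) r (a r) :=
    ⟨hp.symm, hrp.symm, hpr', hrp'.symm, fun e => hrp (a.injective e).symm, hr.symm⟩
  have h' : Four p r (a p) (a r) :=
    ⟨hrp.symm, hp.symm, hpr', hrp', hr.symm, fun e => hrp (a.injective e).symm⟩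
  obtain ⟨D, hD⟩ := exists_lift hs h.sign
  obtain ⟨S, hS⟩ := exists_lift hs h'.sign
  refine ⟨S, ?_⟩
  set s := swap p r * swap (a p) (a r) with hsdef
  set d := swap p (a p) * swap r (a r) with hddef
  let P : Fin n → Prop := fun x => x ≠ p ∧ x ≠ a p ∧ x ≠ r ∧ x ≠ a r
  -- everything supported away from the four points commutes with `S`
  have key : ∀ g : Perm (Subtype P), g ∈ alternatingGroup (Subtype P) →
      ∀ B : Γ, (π B : Perm (Fin n)) = Perm.ofSubtype g → B * S = S * B := by
    intro g hg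
    rw [← Perm.closure_three_cycles_eq_alternating] at hg
    induction hg using Subgroup.closure_induction with
    | one =>
      intro B hB
      exact (central hc (map_eq_one (by rw [hB, map_one])) S).symm
    | mem g hg =>
      intro B hB
      have hdis : Perm.Disjoint s (Perm.ofSubtype g) := by
        intro x
        by_cases hx : P x
        · left
          obtain ⟨e1, e2, e3, e4⟩ := hx
          rw [hsdef, Perm.mul_apply, swap_apply_of_ne_of_ne e2 e4, swap_apply_of_ne_of_ne e1 e3]
        · exact Or.inr (Perm.ofSubtype_apply_of_not_mem _ hx)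
      have hk : π (B⁻¹ * (S * B * S⁻¹)) = 1 := map_eq_one (by
        simp only [map_mul, map_inv, Subgroup.coe_mul, Subgroup.coe_inv, hB, hS]
        rw [hdis.commute.eq]; group)
      set w := B⁻¹ * (S * B * S⁻¹) with hw
      have hconj : S * B * S⁻¹ = B * w := by rw [hw]; group
      have hk3 : π (B ^ 3) = 1 := map_eq_one (by
        rw [map_pow, Subgroup.coe_pow, hB, ← map_pow, ← hg.orderOf, pow_orderOf_eq_one, map_one])
      have h3 : S * B ^ 3 * S⁻¹ = B ^ 3 * w ^ 3 := by
        rw [← conj_pow, hconj, (show Commute B w from central hc hk B).mul_pow]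
      rw [central hc hk3 S, mul_inv_cancel_right] at h3
      have hw3 : w ^ 3 = 1 := by
        have := congrArg (fun x => (B ^ 3)⁻¹ * x) h3
        simpa using this.symm
      rw [pow_succ, pow_two, ker_sq h2 hk, one_mul] at hw3
      rw [hw3, mul_one, mul_inv_eq_iff_eq_mul] at hconj
      exact hconj.symm
    | mul x y hx hy ihx ihy =>
      intro B hB
      rw [Perm.closure_three_cycles_eq_alternating] at hx hy
      obtain ⟨Bx, hBx⟩ := exists_lift hs (σ := Perm.ofSubtype x) (by
        rw [Perm.sign_ofSubtype]; exact hx)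
      obtain ⟨By, hBy⟩ := exists_lift hs (σ := Perm.ofSubtype y) (by
        rw [Perm.sign_ofSubtype]; exact hy)
      have hk : π ((Bx * By)⁻¹ * B) = 1 := map_eq_one (by
        simp only [map_mul, map_inv, Subgroup.coe_mul, Subgroup.coe_inv, hB, hBx, hBy]; group)
      set k := (Bx * By)⁻¹ * B with hkdef
      have hBk : B = Bx * By * k := by rw [hkdef]; group
      rw [hBk]
      exact (((show Commute Bx S from ihx Bx hBx).mul_left (ihy By hBy)).mul_left
        (central hc hk S).symm).eq
    | inv x _ ihx =>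
      intro B hB
      have := ihx B⁻¹ (by rw [map_inv, Subgroup.coe_inv, hB, map_inv, inv_inv])
      exact (Commute.inv_left_iff.mp this).eq
  set r0 : Perm (Fin n) := d * a with hr0
  have f1 : r0 p = p := by
    rw [hr0, hddef, Perm.mul_apply, Perm.mul_apply, swap_apply_of_ne_of_ne h.qr h.qt, swap_apply_right]
  have f2 : r0 (a p) = a p := by
    rw [hr0, hddef, Perm.mul_apply, hpp, Perm.mul_apply, swap_apply_of_ne_of_ne h.pr h.pt, swap_apply_left]
  have f3 : r0 r = r := by
    rw [hr0, hddef, Perm.mul_apply, Perm.mul_apply, swap_apply_right,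
      swap_apply_of_ne_of_ne h.pr.symm h.qr.symm]
  have f4 : r0 (a r) = a r := by
    rw [hr0, hddef, Perm.mul_apply, hrr, Perm.mul_apply, swap_apply_left,
      swap_apply_of_ne_of_ne h.pt.symm h.qt.symm]
  have hP1 : ∀ x, P (r0 x) ↔ P x := fun x => by
    constructor <;> rintro ⟨e1, e2, e3, e4⟩ <;> refine ⟨?_, ?_, ?_, ?_⟩ <;> intro e
    · exact e1 (by rw [e, f1])
    · exact e2 (by rw [e, f2])
    · exact e3 (by rw [e, f3])
    · exact e4 (by rw [e, f4])
    · exact e1 (r0.injective (e.trans f1.symm))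
    · exact e2 (r0.injective (e.trans f2.symm))
    · exact e3 (r0.injective (e.trans f3.symm))
    · exact e4 (r0.injective (e.trans f4.symm))
  have hP2 : ∀ x, r0 x ≠ x → P x := fun x hx =>
    ⟨fun e => hx (e ▸ f1), fun e => hx (e ▸ f2), fun e => hx (e ▸ f3), fun e => hx (e ▸ f4)⟩
  obtain ⟨R, hR⟩ := exists_lift hs (σ := r0) (by
    rw [hr0, map_mul, h.sign, one_mul]; exact (π A).2)
  have hRS : R * S = S * R := key (r0.subtypePerm hP1) (by
      rw [Perm.mem_alternatingGroup, Perm.sign_subtypePerm _ hP1 hP2, hr0, map_mul, h.sign, one_mul]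
      exact (π A).2) R (by rw [hR, Perm.ofSubtype_subtypePerm hP1 hP2])
  have hk : π ((D * R)⁻¹ * A) = 1 := map_eq_one (by
    simp only [map_mul, map_inv, Subgroup.coe_mul, Subgroup.coe_inv, hD, hR, ← ha, hr0, ← mul_assoc]
    rw [h.sq, one_mul, inv_mul_cancel])
  set k := (D * R)⁻¹ * A with hkdef
  have hA : A = D * R * k := by rw [hkdef]; group
  have hw : π ((D * S)⁻¹ * (S * D)) = 1 := map_eq_one (by
    simp only [map_mul, map_inv, Subgroup.coe_mul, Subgroup.coe_inv, hD, hS]
    rw [inv_mul_eq_one, hsdef, hddef]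
    exact h.comm)
  have hSD : S * D = D * S * z := by
    rcases ker_cases h2 hz hz1 hw with e | e
    · rw [inv_mul_eq_one] at e
      exact absurd e (not_commute hs hc h2 hperf h hD hS)
    · rw [← e]; group
  rw [hA]
  calc S * (D * R * k) = S * D * (R * k) := by group
    _ = D * S * (z * (R * k)) := by rw [hSD]; group
    _ = D * S * (R * k * z) := by rw [central hc hz (R * k)]
    _ = D * (S * R) * k * z := by group
    _ = D * R * (S * k) * z := by rw [← hRS]; group
    _ = D * R * k * S * z := by rw [central hc hk S]; group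

end

end CfsgLib.Classes.AltCoverComm
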