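import Cfsg.Agent.Lib.Classes.QuadSpace

/-!
The norm equation of a separable quadratic extension of a finite commutative ring.
-/

set_option autoImplicit false

namespace CfsgLib.Classes

/-- The norm form `a² + s a b + b²` is multiplicative. -/
theorem norm_comp {R : Type*} [CommRing R] (s a b c d : R) :
    (a * c - b * d) * (a * c - b * d) + s * (a * c - b * d) * (a * d + b * c + s * b * d) +
      (a * d + b * c + s * b * d) * (a * d + b * c + s * b * d) =
      (a * a + s * a * b + b * b) * (c * c + s * c * d + d * d) := by ring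

/-- The norm form of a separable quadratic algebra over a finite field is surjective. -/
theorem exists_norm_eq_field {k : Type*} [Field k] [Finite k] (s h : k) (hs : s * s - 4 ≠ 0) :
    ∃ a b, a * a + s * a * b + b * b = h := by
  by_cases h2 : (2 : k) = 0
  · haveI : CharP k 2 := CharTwo.of_one_ne_zero_of_two_eq_zero one_ne_zero h2
    obtain ⟨t, ht⟩ := FiniteField.isSquare_of_char_two (ringChar.eq k 2) h
    exact ⟨t, 0, by rw [ht]; ring⟩
  · have h4 : (4 : k) ≠ 0 := by
      rw [show (4 : k) = 2 * 2 by norm_num]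
      exact mul_ne_zero h2 h2
    obtain ⟨x, y, hxy⟩ := exists_sq_add_sq 1 (-((s * s - 4) / 4)) h one_ne_zero (neg_ne_zero.mpr (div_ne_zero hs h4))
    refine ⟨x - s / 2 * y, y, ?_⟩
    rw [← hxy]
    field_simp
    ring

/-- Over a finite ring the norm form of a separable quadratic algebra hits every unit. -/
theorem exists_norm_eq_ring {S : Type*} [CommRing S] [Finite S] {s h : S} (hs : IsUnit (s * s - 4)) (hh : IsUnit h)
    (h2 : IsUnit (2 : S) ∨ IsUnit s) : ∃ a b, a * a + s * a * b + b * b = h := by
  classical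
  let π := Ideal.Quotient.mk (nilradical S)
  have : IsReduced (S ⧸ nilradical S) := (Ideal.isRadical_iff_quotient_reduced _).mp (Ideal.radical_isRadical _)
  have : IsArtinianRing (S ⧸ nilradical S) := inferInstance
  let e := IsArtinianRing.equivPi (S ⧸ nilradical S)
  have hcomp : ∀ I : MaximalSpectrum (S ⧸ nilradical S), ∃ a b : (S ⧸ nilradical S) ⧸ I.asIdeal,
      a * a + e (π s) I * a * b + b * b = e (π h) I := by
    intro I
    let _ : Field ((S ⧸ nilradical S) ⧸ I.asIdeal) := Ideal.Quotient.field I.asIdeal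
    have : Finite (S ⧸ nilradical S) := Finite.of_surjective π Ideal.Quotient.mk_surjective
    have : Finite ((S ⧸ nilradical S) ⧸ I.asIdeal) := Finite.of_surjective (Ideal.Quotient.mk I.asIdeal) Ideal.Quotient.mk_surjective
    refine exists_norm_eq_field _ _ ?_
    have hu := hs.map ((Ideal.Quotient.mk I.asIdeal).comp π)
    simp only [map_sub, map_mul, map_ofNat, RingHom.comp_apply] at hu
    exact hu.ne_zero
  choose a b hab using hcomp
  obtain ⟨a₀, ha₀⟩ := Ideal.Quotient.mk_surjective (e.symm a)
  obtain ⟨b₀, hb₀⟩ := Ideal.Quotient.mk_surjective (e.symm b)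
  set N₀ := a₀ * a₀ + s * a₀ * b₀ + b₀ * b₀ with hN₀
  have hq : π N₀ = π h := by
    apply e.injective
    funext I
    simp only [hN₀, π, map_add, map_mul, ha₀, hb₀, AlgEquiv.apply_symm_apply, Pi.add_apply, Pi.mul_apply]
    exact hab I
  have hnilh : IsNilpotent (h - N₀) := mem_nilradical.mp (Ideal.Quotient.eq.mp hq.symm)
  have hN₀u : IsUnit N₀ := by
    have hn : IsNilpotent (-(h - N₀)) := hnilh.neg
    have := hn.isUnit_add_right_of_commute hh (Commute.all _ _)
    rwa [show -(h - N₀) + h = N₀ by ring] at this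
  obtain ⟨u, hu⟩ := hN₀u
  set m := (h - N₀) * ((u⁻¹ : Sˣ) : S) with hm
  have hmn : IsNilpotent m := (Commute.all _ _).isNilpotent_mul_right hnilh
  obtain ⟨v, hv, hvN⟩ : ∃ v : S, IsUnit v ∧ ∀ n : S, ∃ c d : S, c * c + s * c * d + d * d = 1 + n * (v + n) := by
    rcases h2 with h2 | h2
    · exact ⟨2, h2, fun n => ⟨1 + n, 0, by ring⟩⟩
    · exact ⟨s, h2, fun n => ⟨1, n, by ring⟩⟩
  let f : nilradical S → nilradical S := fun n => ⟨(n : S) * (v + n), Ideal.mul_mem_right _ _ n.2⟩
  have hf : Function.Surjective f := by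
    refine Finite.injective_iff_surjective.mp fun x y hxy => Subtype.ext ?_
    have h1 : ((x : S) - y) * (v + x + y) = 0 := by
      have h' : (x : S) * (v + x) = (y : S) * (v + y) := congrArg Subtype.val hxy
      linear_combination h'
    have hun : IsUnit (v + (x : S) + y) := by
      have hn : IsNilpotent ((x : S) + y) := mem_nilradical.mp (add_mem x.2 y.2)
      have := hn.isUnit_add_right_of_commute hv (Commute.all _ _)
      rwa [add_comm ((x : S) + y) v, ← add_assoc] at this
    exact sub_eq_zero.mp (hun.mul_left_eq_zero.mp h1)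
  obtain ⟨n, hn⟩ := hf ⟨m, mem_nilradical.mpr hmn⟩
  obtain ⟨c, d, hcd⟩ := hvN n
  refine ⟨a₀ * c - b₀ * d, a₀ * d + b₀ * c + s * b₀ * d, ?_⟩
  rw [norm_comp, hcd, ← hN₀, show (n : S) * (v + n) = m from congrArg Subtype.val hn, hm, ← hu]
  linear_combination (h - (u : S)) * u.mul_inv

end CfsgLib.Classes
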