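import Mathlib

/-!
A matrix of prime order `l` whose set of eigenvalues is closed under `z ↦ z ^ s`, where `s` has order
at least the dimension modulo `l`, fixes no nonzero vector; hence it commutes with no proper idempotent.
-/

set_option autoImplicit false
set_option linter.unusedSectionVars false
set_option linter.style.haveILetI false

namespace CfsgLib.Classes.PpdIdem

open Polynomial

variable {F : Type*} [Field F] {ι : Type*} [Fintype ι] [DecidableEq ι]

theorem minpoly_eval_one_ne_zero (M : Matrix ι ι F) {l s : ℕ} (hl : l.Prime) (hlF : (l : F) ≠ 0)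
    (hM : M ^ l = 1) (hM1 : M ≠ 1) (hs : Fintype.card ι ≤ orderOf (s : ZMod l))
    (hclosed : ∀ z : AlgebraicClosure F, aeval z (minpoly F M) = 0 →
      aeval (z ^ s) (minpoly F M) = 0) : (minpoly F M).eval 1 ≠ 0 := by
  classical
  haveI := Fact.mk hl
  intro h1
  set f := minpoly F M with hf
  have hfm : f.Monic := minpoly.monic (Matrix.isIntegral M)
  have hfl : f ∣ X ^ l - C 1 := minpoly.dvd F M (by simp [hM])
  have hsep : f.Separable :=
    (separable_X_pow_sub_C (1 : F) hlF one_ne_zero).of_dvd hfl
  obtain ⟨h, hh⟩ := (dvd_iff_isRoot (p := f) (a := (1 : F))).mpr h1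
  have hcop : IsCoprime (X - C (1 : F)) h := by
    rw [hh] at hsep
    exact hsep.isCoprime
  have hh1 : h.eval 1 ≠ 0 := by
    intro h0
    obtain ⟨u, v, huv⟩ := hcop
    have := congrArg (eval (1 : F)) huv
    simp [h0] at this
  have hh0 : h.degree ≠ 0 := by
    intro hd
    have h2 : f ∣ X - C 1 := by
      rw [hh]
      exact (isUnit_iff_degree_eq_zero.mpr hd).mul_right_dvd.mpr dvd_rfl
    obtain ⟨w, hw⟩ := h2
    have h3 : aeval M (X - C (1 : F)) = 0 := by rw [hw, map_mul, hf, minpoly.aeval, zero_mul]
    simp [sub_eq_zero] at h3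
    exact hM1 h3
  obtain ⟨z, hz⟩ := IsAlgClosed.exists_aeval_eq_zero (AlgebraicClosure F) h hh0
  have hzf : aeval z f = 0 := by rw [hh, map_mul, hz, mul_zero]
  have hz1 : z ≠ 1 := by
    rintro rfl
    rw [← map_one (algebraMap F (AlgebraicClosure F)), aeval_algebraMap_apply] at hz
    exact hh1 (by simpa [coe_aeval_eq_eval] using
      (map_eq_zero (algebraMap F (AlgebraicClosure F))).mp hz)
  have hzl : z ^ l = 1 := by
    obtain ⟨w, hw⟩ := hfl
    have := congrArg (aeval z) hw
    rw [map_mul, hzf, zero_mul] at this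
    simpa [sub_eq_zero] using this
  have hord : orderOf z = l := orderOf_eq_prime hzl hz1
  have hroots : ∀ i : ℕ, aeval (z ^ s ^ i) f = 0 := by
    intro i
    induction i with
    | zero => simpa using hzf
    | succ i ih => rw [pow_succ, pow_mul]; exact hclosed _ ih
  set n := Fintype.card ι with hn
  have hone : ∀ i, i < n → z ^ s ^ i ≠ 1 := by
    intro i hi h0
    rw [← orderOf_dvd_iff_pow_eq_one, hord] at h0
    have hsz : (s : ZMod l) = 0 := by
      rw [ZMod.natCast_eq_zero_iff]
      exact hl.dvd_of_dvd_pow h0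
    have hn0 : orderOf (0 : ZMod l) = 0 := by
      rw [orderOf_eq_zero_iff, isOfFinOrder_iff_pow_eq_one]
      rintro ⟨k, hk, hk'⟩
      rw [zero_pow (by omega)] at hk'
      exact zero_ne_one hk'
    rw [hsz, hn0] at hs
    omega
  have hinj : Set.InjOn (fun i => z ^ s ^ i) ↑(Finset.range n) := by
    intro i hi j hj hij
    simp only [Finset.coe_range, Set.mem_Iio] at hi hj
    have h' : ((s : ZMod l)) ^ i = (s : ZMod l) ^ j := by
      rw [← Nat.cast_pow, ← Nat.cast_pow, ZMod.natCast_eq_natCast_iff, ← hord]
      exact (IsOfFinOrder.pow_eq_pow_iff_modEq (isOfFinOrder_iff_pow_eq_one.mpr ⟨l, hl.pos, hzl⟩)).mp hij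
    exact pow_injOn_Iio_orderOf (x := (s : ZMod l)) (hi.trans_le hs) (hj.trans_le hs) h'
  set S := insert (1 : AlgebraicClosure F) ((Finset.range n).image fun i => z ^ s ^ i) with hS
  have hcard : S.card = n + 1 := by
    rw [hS, Finset.card_insert_of_notMem, Finset.card_image_of_injOn hinj, Finset.card_range]
    simp only [Finset.mem_image, Finset.mem_range, not_exists, not_and]
    exact fun i hi h0 => hone i hi h0
  have hg0 : f.map (algebraMap F (AlgebraicClosure F)) ≠ 0 := (hfm.map _).ne_zero
  have hle : S.card ≤ (f.map (algebraMap F (AlgebraicClosure F))).natDegree := by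
    refine card_le_degree_of_subset_roots fun x hx => ?_
    rw [mem_roots hg0, IsRoot, eval_map_algebraMap]
    have hx' : x ∈ S := hx
    rw [hS] at hx'
    rcases Finset.mem_insert.mp hx' with rfl | hx
    · rw [← map_one (algebraMap F (AlgebraicClosure F)), aeval_algebraMap_apply]
      simp [coe_aeval_eq_eval, h1]
    · obtain ⟨i, -, rfl⟩ := Finset.mem_image.mp hx
      exact hroots i
  rw [natDegree_map, hcard] at hle
  have := natDegree_le_of_dvd (Matrix.minpoly_dvd_charpoly M) M.charpoly_monic.ne_zero
  rw [Matrix.charpoly_natDegree_eq_dim, ← hn, ← hf] at this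
  omega

theorem eval_one_eq_zero_of_mul_eq {M x : Matrix ι ι F} (hMx : M * x = x) (hx : x ≠ 0) :
    (minpoly F M).eval 1 = 0 := by
  have key : ∀ P : F[X], aeval M P * x = P.eval 1 • x := by
    intro P
    induction P using Polynomial.induction_on' with
    | add P Q hP hQ => rw [map_add, add_mul, hP, hQ, eval_add, add_smul]
    | monomial k a =>
      have hk : M ^ k * x = x := by
        induction k with
        | zero => simp
        | succ k ih => rw [pow_succ, mul_assoc, hMx, ih]
      rw [aeval_monomial, ← Algebra.smul_def, smul_mul_assoc, hk, eval_monomial, one_pow, mul_one]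
  have h := key (minpoly F M)
  rw [minpoly.aeval, zero_mul] at h
  exact (smul_eq_zero.mp h.symm).resolve_right hx

theorem corner_pow {R : Type*} [Ring R] {B e : R} (he : e * e = e) (hc : Commute B e) (k : ℕ) :
    (e * B + (1 - e)) ^ k = e * B ^ k + (1 - e) := by
  induction k with
  | zero => simp
  | succ k ih =>
    have h1 : Commute (B ^ k) e := hc.pow_left k
    have h2 : (1 - e) * (1 - e) = 1 - e := by rw [mul_sub, mul_one, sub_mul, one_mul, he]; abel
    have h3 : (1 - e) * e = 0 := by rw [sub_mul, one_mul, he, sub_self]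
    have h4 : e * (1 - e) = 0 := by rw [mul_sub, mul_one, he, sub_self]
    rw [pow_succ, ih, add_mul, mul_add, mul_add, h2, ← mul_assoc (1 - e) e B, h3, zero_mul,
      mul_assoc e (B ^ k) (1 - e), ((Commute.one_right _).sub_right h1).eq, ← mul_assoc e (1 - e),
      h4, zero_mul, pow_succ, ← mul_assoc (e * B ^ k) e, mul_assoc e (B ^ k) e, h1.eq,
      ← mul_assoc e e, he, mul_assoc, add_zero, zero_add]

/-- No proper idempotent commutes with `B`, as soon as both corners of `B` have closed spectrum. -/
theorem no_idempotent {B e : Matrix ι ι F} {l s : ℕ} (hl : l.Prime) (hlF : (l : F) ≠ 0)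
    (hB : B ^ l = 1) (hB1 : B ≠ 1) (hs : Fintype.card ι ≤ orderOf (s : ZMod l))
    (he : e * e = e) (he0 : e ≠ 0) (he1 : e ≠ 1) (hc : Commute B e)
    (hclosed : ∀ d : Matrix ι ι F, (d = e ∨ d = 1 - e) → ∀ z : AlgebraicClosure F,
      aeval z (minpoly F (d * B + (1 - d))) = 0 →
        aeval (z ^ s) (minpoly F (d * B + (1 - d))) = 0) : False := by
  have key : ∀ d, (d = e ∨ d = 1 - e) → d * d = d → Commute B d → d ≠ 1 →
      d * B + (1 - d) = 1 := by
    intro d hd hdd hBd hd1
    by_contra hne
    refine minpoly_eval_one_ne_zero _ hl hlF ?_ hne hs (hclosed d hd) ?_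
    · rw [corner_pow hdd hBd, hB, mul_one, add_sub_cancel]
    · refine eval_one_eq_zero_of_mul_eq (x := 1 - d) ?_ (sub_ne_zero.mpr (Ne.symm hd1))
      rw [add_mul, mul_assoc, ((Commute.one_right B).sub_right hBd).eq, ← mul_assoc,
        mul_sub, mul_one, hdd, sub_self, zero_mul, zero_add, sub_mul, one_mul, mul_sub, mul_one,
        hdd, sub_self, sub_zero]
  have he' : (1 - e) * (1 - e) = 1 - e := by rw [mul_sub, mul_one, sub_mul, one_mul, he]; abel
  have h1 := key e (Or.inl rfl) he hc he1
  have h2 := key (1 - e) (Or.inr rfl) he' ((Commute.one_right B).sub_right hc)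
    (by rw [Ne, sub_eq_self]; exact he0)
  apply hB1
  have : e * B + (1 - e) + ((1 - e) * B + (1 - (1 - e))) = B + 1 := by
    rw [sub_mul, one_mul]; abel
  rw [h1, h2] at this
  exact add_right_cancel this.symm

/-- Spectra over a finite field are closed under the Frobenius. -/
theorem aeval_pow_card_eq_zero [Fintype F] {E : Type*} [CommRing E] [Algebra F E] (P : F[X]) {z : E}
    (hz : aeval z P = 0) : aeval (z ^ Fintype.card F) P = 0 := by
  rw [← expand_aeval, FiniteField.expand_card, map_pow, hz, zero_pow Fintype.card_ne_zero]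

end CfsgLib.Classes.PpdIdem
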