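import Cfsg.Agent.Lib.Classes.NormEq
import Cfsg.Agent.Lib.Forms.Symplectic

/-!
Semisimple isometries similar as linear maps: the isometry between the parts without eigenvalue `±1`.
-/

set_option autoImplicit false
set_option linter.unusedSectionVars false

namespace CfsgLib.Classes.SemiConj

open Module Polynomial

variable {F V : Type*} [Field F] [AddCommGroup V] [Module F V]

/-- Self-adjointness. -/
def IsSA (B : LinearMap.BilinForm F V) (T : Module.End F V) : Prop := ∀ u v, B (T u) v = B u (T v)

theorem IsSA.comp {B : LinearMap.BilinForm F V} {T U : Module.End F V} (hT : IsSA B T) (hU : IsSA B U)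
    (hc : Commute T U) : IsSA B (T * U) := fun u v => by
  show B (T (U u)) v = B u ((T * U) v)
  rw [hT, hU, hc.eq]; rfl

/-- The self-adjoint elements of a commutative subalgebra generated by self-adjoint elements. -/
theorem isSA_adjoin {B : LinearMap.BilinForm F V} {S : Set (Module.End F V)} (hS : ∀ T ∈ S, IsSA B T)
    (hcomm : ∀ T ∈ S, ∀ U ∈ S, T * U = U * T) :
    ∀ T ∈ Algebra.adjoin F S, IsSA B T := by
  letI := Algebra.adjoinCommRingOfComm F hcomm
  intro T hT
  have key : ∀ T, ∀ hT : T ∈ Algebra.adjoin F S, IsSA B T := by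
    intro T hT
    induction hT using Algebra.adjoin_induction with
    | mem x hx => exact hS x hx
    | algebraMap r => intro u v; simp [Algebra.algebraMap_eq_smul_one]
    | add x y _ _ hx hy => intro u v; simp [hx u v, hy u v]
    | mul x y hx hy hX hY =>
      exact hX.comp hY (congrArg Subtype.val (mul_comm (⟨x, hx⟩ : Algebra.adjoin F S) ⟨y, hy⟩))
  exact key T hT

/-- Nilpotent polynomials in a map annihilated by `X^r - 1` vanish. -/
theorem aeval_eq_zero_of_isNilpotent [FiniteDimensional F V] {r : ℕ} (hr : (r : F) ≠ 0) {A : Module.End F V}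
    (hA : A ^ r = 1) (p : F[X]) (hp : IsNilpotent (aeval A p)) : aeval A p = 0 := by
  obtain ⟨n, hn⟩ := hp
  rw [← map_pow] at hn
  have hdvd : minpoly F A ∣ p ^ n := minpoly.dvd F A hn
  have h1 : minpoly F A ∣ X ^ r - 1 := minpoly.dvd F A (by simp [hA])
  have hsq : Squarefree (minpoly F A) := ((X_pow_sub_one_separable_iff.mpr hr).squarefree).squarefree_of_dvd h1
  have := hsq.isRadical n p hdvd
  obtain ⟨q, rfl⟩ := this
  rw [map_mul, minpoly.aeval, zero_mul]

theorem exists_pow_idem {M : Type*} [Monoid M] [Finite M] (t : M) : ∃ n, 0 < n ∧ IsIdempotentElem (t ^ n) := by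
  obtain ⟨i, j, hij, h⟩ := Finite.exists_ne_map_eq_of_infinite (fun k : ℕ => t ^ k)
  wlog hlt : i < j generalizing i j
  · exact this j i hij.symm h.symm (by omega)
  obtain ⟨d, hd, rfl⟩ : ∃ d, 0 < d ∧ j = i + d := ⟨j - i, by omega, by omega⟩
  have hper : ∀ k, i ≤ k → ∀ c, t ^ (k + c * d) = t ^ k := by
    intro k hk c
    induction c with
    | zero => simp
    | succ c ih =>
      rw [show k + (c + 1) * d = (i + d) + (k - i + c * d) by rw [Nat.succ_mul]; omega, pow_add]
      rw [← h, ← pow_add, show i + (k - i + c * d) = k + c * d by omega, ih]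
  refine ⟨(i + 1) * d, Nat.mul_pos (Nat.succ_pos i) hd, ?_⟩
  show _ * _ = _
  rw [← pow_add]
  exact hper ((i + 1) * d) (le_trans (Nat.le_succ i) (Nat.le_mul_of_pos_right _ hd)) (i + 1)

variable [Finite F] [FiniteDimensional F V]

/-- The splitting off of the eigenvalues `±1` together with the isometry on the rest. -/
theorem exists_partial {B : LinearMap.BilinForm F V} (hB : B.Nondegenerate) {ε : F}
    (hε : ∀ u v, B u v = ε * B v u) {A A' : Module.End F V} {r : ℕ} (hr : (r : F) ≠ 0) (hAr : A ^ r = 1)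
    (hA : ∀ u v, B (A u) (A v) = B u v) (hA' : ∀ u v, B (A' u) (A' v) = B u v) (hA'r : A' ^ r = 1)
    (X : V ≃ₗ[F] V) (hX : ∀ v, X (A v) = A' (X v)) :
    ∃ (E E' : Module.End F V) (f : Module.End F V),
      IsIdempotentElem E ∧ IsSA B E ∧ IsSA B E' ∧ Commute E A ∧ A * (A * (1 - E)) = 1 - E ∧
      (∀ v, E' (X v) = X (E v)) ∧
      ((2 : F) = 0 → A * (1 - E) = 1 - E) ∧
      Function.Injective f ∧ (∀ v, f (A v) = A' (f v)) ∧ (∀ v, f (E v) = E' (f v)) ∧
      (∀ u v, B (f (E u)) (f (E v)) = B (E u) (E v)) ∧ (∃ U : Module.End F V, (A - 1) * U = E ∧ Commute U A) := by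
  classical
  have hr0 : r ≠ 0 := fun h => hr (by rw [h, Nat.cast_zero])
  have : Finite V := Module.finite_of_finite F
  have : Finite (Module.End F V) := Finite.of_injective _ DFunLike.coe_injective
  set Ai := A ^ (r - 1) with hAi
  have hAAi : A * Ai = 1 := by rw [hAi, ← pow_succ', Nat.sub_add_cancel (Nat.pos_of_ne_zero hr0), hAr]
  have hAiA : Ai * A = 1 := by rw [hAi, ← pow_succ, Nat.sub_add_cancel (Nat.pos_of_ne_zero hr0), hAr]
  have hadjA : ∀ u v, B (A u) v = B u (Ai v) := fun u v => by
    conv_lhs => rw [show v = A (Ai v) from (LinearMap.congr_fun hAAi v).symm]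
    rw [hA]
  have hadjAi : ∀ u v, B (Ai u) v = B u (A v) := fun u v => by
    conv_rhs => rw [show u = A (Ai u) from (LinearMap.congr_fun hAAi u).symm]
    rw [hA]
  -- the operator comparing the two forms
  set h : Module.End F V := (B.toDual hB).symm.toLinearMap ∘ₗ (B.compl₁₂ X.toLinearMap X.toLinearMap) with hh
  have hhB : ∀ u v, B (h u) v = B (X u) (X v) := fun u v => by
    rw [hh, LinearMap.comp_apply, LinearEquiv.coe_coe, LinearMap.BilinForm.apply_toDual_symm_apply]
    rfl
  have hhSA : IsSA B h := fun u v => by rw [hhB, hε u (h v), hhB]; exact hε _ _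
  have hhA : Commute h A := LinearMap.ext fun u => sub_eq_zero.mp (hB.1 _ fun v => by
    show B (h (A u) - A (h u)) v = 0
    have e : v = A (Ai v) := (LinearMap.congr_fun hAAi v).symm
    rw [map_sub, LinearMap.sub_apply, hhB, hadjA, hhB, hX]
    nth_rw 1 [e]
    rw [hX, hA', sub_self])
  have hhu : IsUnit h := by
    rw [Module.End.isUnit_iff]
    have hinj : Function.Injective h := (injective_iff_map_eq_zero h).mpr fun u hu => by
      refine X.map_eq_zero_iff.mp (hB.1 _ fun w => ?_)
      obtain ⟨v, rfl⟩ := X.surjective w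
      rw [← hhB, hu, map_zero, LinearMap.zero_apply]
    exact ⟨hinj, LinearMap.injective_iff_surjective.mp hinj⟩
  set s : Module.End F V := A + Ai with hs
  have hsSA : IsSA B s := fun u v => by
    simp only [hs, LinearMap.add_apply, map_add, hadjA, hadjAi, add_comm]
  have hAs : Commute A s := (Commute.refl A).add_right ((Commute.refl A).pow_right _)
  have hhs : Commute h s := hhA.add_right (hhA.pow_right _)
  have hcomm : ∀ T ∈ ({h, s} : Set (Module.End F V)), ∀ U ∈ ({h, s} : Set (Module.End F V)), T * U = U * T := by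
    rintro T (rfl | rfl) U (rfl | rfl)
    · rfl
    · exact hhs.eq
    · exact hhs.eq.symm
    · rfl
  let S := Algebra.adjoin F ({h, s} : Set (Module.End F V))
  letI : CommRing S := Algebra.adjoinCommRingOfComm F hcomm
  have hSsa : ∀ T : S, IsSA B (T : Module.End F V) := fun T =>
    isSA_adjoin (by rintro T (rfl | rfl) <;> assumption) hcomm T T.2
  have hSA : ∀ T : S, Commute (T : Module.End F V) A := fun T => by
    have hle : S ≤ Subalgebra.centralizer F {A} := Algebra.adjoin_le (by
      rintro T (rfl | rfl) <;> simp only [SetLike.mem_coe, Subalgebra.mem_centralizer_iff, Set.mem_singleton_iff, forall_eq]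
      · exact hhA.eq.symm
      · exact hAs.eq)
    exact ((Subalgebra.mem_centralizer_iff F).mp (hle T.2) A rfl).symm
  let s₀ : S := ⟨s, Algebra.subset_adjoin (Set.mem_insert_of_mem _ rfl)⟩
  let h₀ : S := ⟨h, Algebra.subset_adjoin (Set.mem_insert _ _)⟩
  obtain ⟨n, hn, hidem⟩ := exists_pow_idem (s₀ * s₀ - 4)
  set t := s₀ * s₀ - 4 with ht
  set E₀ := t ^ n with hE₀
  have hE : E₀ * E₀ = E₀ := hidem
  set E : Module.End F V := (E₀ : Module.End F V) with hEdef
  -- reducedness
  let ps : F[X] := Polynomial.X + Polynomial.X ^ (r - 1)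
  have hps : aeval A ps = s := by simp [ps, hs, hAi]
  let pt : F[X] := ps * ps - 4
  have hpt : aeval A pt = (t : Module.End F V) := by
    simp only [pt, map_sub, map_mul, hps, map_ofNat, ht, AddSubgroupClass.coe_sub, MulMemClass.coe_mul, s₀]
    rfl
  have hpE : aeval A (pt ^ n) = E := by rw [map_pow, hpt, hEdef, hE₀, SubmonoidClass.coe_pow]
  have hz1 : (t : Module.End F V) * (1 - E) = 0 := by
    have e : aeval A (pt * (1 - pt ^ n)) = (t : Module.End F V) * (1 - E) := by
      rw [map_mul, map_sub (aeval A) 1 (pt ^ n), map_one, hpE, hpt]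
    rw [← e]
    refine aeval_eq_zero_of_isNilpotent hr hAr _ ⟨n, ?_⟩
    rw [e]
    have hz : (t * (1 - E₀)) ^ n = 0 := by
      rw [mul_pow, ← hE₀]
      obtain ⟨k, rfl⟩ : ∃ k, n = k + 1 := ⟨n - 1, by omega⟩
      rw [pow_succ', ← mul_assoc, mul_sub, mul_one, hE, sub_self, zero_mul]
    have := congrArg (fun x : S => (x : Module.End F V)) hz
    simpa [hEdef] using this
  have hcEA : Commute E A := hSA E₀
  have hz2 : (A - Ai) * (1 - E) = 0 := by
    let pd : F[X] := (Polynomial.X - Polynomial.X ^ (r - 1)) * (1 - pt ^ n)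
    have e : aeval A pd = (A - Ai) * (1 - E) := by simp [pd, hpE, hAi]
    rw [← e]
    refine aeval_eq_zero_of_isNilpotent hr hAr _ ⟨2, ?_⟩
    rw [← map_pow]
    have ed : aeval A (((Polynomial.X : F[X]) - Polynomial.X ^ (r - 1)) * (Polynomial.X - Polynomial.X ^ (r - 1))) = (t : Module.End F V) := by
      simp only [map_mul, map_sub, aeval_X, map_pow, ← hAi, ht, AddSubgroupClass.coe_sub, MulMemClass.coe_mul, s₀, hs]
      rw [sub_mul, mul_sub, mul_sub, add_mul, mul_add, mul_add, hAAi, hAiA,
        show ((4 : S) : Module.End F V) = 4 from rfl, show (4 : Module.End F V) = 1 + 1 + 1 + 1 by norm_num]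
      abel
    have e2 : pd ^ 2 = ((Polynomial.X - Polynomial.X ^ (r - 1)) * (Polynomial.X - Polynomial.X ^ (r - 1))) *
        ((1 - pt ^ n) * (1 - pt ^ n)) := by simp only [pd]; ring
    rw [e2, map_mul, ed, map_mul, map_sub, map_one, hpE, ← mul_assoc, hz1, zero_mul]
  have hAA1 : A * (A * (1 - E)) = 1 - E := by
    rw [sub_mul, sub_eq_zero] at hz2
    rw [hz2, ← mul_assoc, hAAi, one_mul]
  -- the norm equation
  obtain ⟨c, hc⟩ : ∃ c : F, c * c - 4 ≠ 0 ∧ ((2 : F) = 0 → c = 1) := by
    by_cases h2 : (2 : F) = 0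
    · refine ⟨1, ?_, fun _ => rfl⟩
      rw [show (4 : F) = 2 * 2 by norm_num, h2]; simp
    · refine ⟨0, ?_, fun h => absurd h h2⟩
      rw [show (4 : F) = 2 * 2 by norm_num]
      simpa using h2
  set c₀ : S := algebraMap F S c with hc₀
  set s₁ := s₀ * E₀ + c₀ * (1 - E₀) with hs₁
  have hts : s₁ * s₁ - 4 = t * E₀ + (c₀ * c₀ - 4) * (1 - E₀) := by
    rw [hs₁, ht]
    linear_combination (s₀ * s₀ - 2 * s₀ * c₀ + c₀ * c₀) * hE
  have hunit : IsUnit (s₁ * s₁ - 4) := by
    refine IsUnit.of_mul_eq_one (t ^ (n - 1) * E₀ + algebraMap F S (c * c - 4)⁻¹ * (1 - E₀)) ?_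
    have h1 : t * t ^ (n - 1) = E₀ := by rw [← pow_succ', Nat.sub_add_cancel hn, hE₀]
    have h2 : (c₀ * c₀ - 4) * algebraMap F S (c * c - 4)⁻¹ = 1 := by
      rw [hc₀, ← map_mul, ← map_ofNat (algebraMap F S) 4, ← map_sub, ← map_mul, mul_inv_cancel₀ hc.1, map_one]
    rw [hts]
    linear_combination E₀ * E₀ * h1 + (1 - E₀) * (1 - E₀) * h2 +
      (E₀ + 2 - (t * algebraMap F S (c * c - 4)⁻¹ + (c₀ * c₀ - 4) * t ^ (n - 1))) * hE
  have h2u : IsUnit (2 : S) ∨ IsUnit s₁ := by
    by_cases h2 : (2 : F) = 0
    · right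
      have h2S : (2 : S) = 0 := by rw [← map_ofNat (algebraMap F S) 2, h2, map_zero]
      refine (IsUnit.mul_iff.mp (?_ : IsUnit (s₁ * s₁))).1
      rwa [show (4 : S) = 2 * 2 by norm_num, h2S, mul_zero, sub_zero] at hunit
    · left
      rw [← map_ofNat (algebraMap F S) 2]
      exact (Ne.isUnit h2).map _
  have hh₀ : IsUnit h₀ := by
    obtain ⟨u, hu⟩ := hhu
    have hp : (h₀ : S) ^ orderOf u = 1 := Subtype.ext (by
      simp only [SubmonoidClass.coe_pow, h₀, OneMemClass.coe_one, ← hu]
      rw [← Units.val_pow_eq_pow_val, pow_orderOf_eq_one, Units.val_one])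
    exact IsUnit.of_pow_eq_one hp (orderOf_pos u).ne'
  have : Finite S := Finite.of_injective _ Subtype.val_injective
  obtain ⟨a, b, hab⟩ := exists_norm_eq_ring hunit hh₀ h2u
  set z : Module.End F V := (a : Module.End F V) + (b : Module.End F V) * A with hz
  set z' : Module.End F V := (a : Module.End F V) + (b : Module.End F V) * Ai with hz'
  have hzadj : ∀ u v, B (z u) v = B u (z' v) := fun u v => by
    have hcb : Commute (b : Module.End F V) Ai := (hSA b).pow_right _
    simp only [hz, hz', LinearMap.add_apply, map_add, Module.End.mul_apply, hSsa a u v, hSsa b (A u) v, hadjA]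
    rw [show Ai ((b : Module.End F V) v) = (b : Module.End F V) (Ai v) from (LinearMap.congr_fun hcb.eq v).symm]
  have hzz : z' * z = ((a * a + s₀ * a * b + b * b : S) : Module.End F V) := by
    simp only [hz, hz', AddMemClass.coe_add, MulMemClass.coe_mul, s₀]
    have ha : Commute (a : Module.End F V) A := hSA a
    have hb : Commute (b : Module.End F V) A := hSA b
    have hab' : Commute (a : Module.End F V) (b : Module.End F V) := congrArg Subtype.val (mul_comm a b)
    have hai : Commute (a : Module.End F V) Ai := ha.pow_right _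
    have hbi : Commute (b : Module.End F V) Ai := hb.pow_right _
    have e1 : (b : Module.End F V) * Ai * (a : Module.End F V) = Ai * ((a : Module.End F V) * b) := by
      rw [hbi.eq, mul_assoc, hab'.eq]
    have e2 : (a : Module.End F V) * ((b : Module.End F V) * A) = A * ((a : Module.End F V) * b) := by
      rw [← mul_assoc, (ha.mul_left hb).eq]
    have e3 : (b : Module.End F V) * Ai * ((b : Module.End F V) * A) = (b : Module.End F V) * b := by
      rw [mul_assoc, ← mul_assoc Ai, ← hbi.eq, mul_assoc, hAiA, mul_one]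
    rw [mul_add, add_mul, add_mul, e1, e2, e3, hs, add_mul, add_mul, mul_assoc A, mul_assoc Ai]
    abel
  -- the same after multiplying by `E`
  have hzzE : z' * z * E = h * E := by
    have e : (a * a + s₀ * a * b + b * b) * E₀ = h₀ * E₀ := by
      have h1 := congrArg (· * E₀) hab
      simp only [hs₁] at h1
      linear_combination h1 - ((s₀ - c₀) * a * b) * hE
    rw [hzz]
    exact congrArg (fun x : S => (x : Module.End F V)) e
  have hzA : Commute z A := (hSA a).add_left ((hSA b).mul_left (Commute.refl A))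
  have hzE : Commute z E := by
    refine Commute.add_left (congrArg Subtype.val (mul_comm a E₀)) ?_
    exact Commute.mul_left (congrArg Subtype.val (mul_comm b E₀)) hcEA.symm
  set w : Module.End F V := z * E + (1 - E) with hw
  have hEE : E * E = E := congrArg Subtype.val hE
  have hwu : IsUnit w := by
    rw [Module.End.isUnit_iff]
    have hinj : Function.Injective w := (injective_iff_map_eq_zero w).mpr fun v hv => by
      have h1 : E * w = z * E := by rw [hw, mul_add, ← mul_assoc, ← hzE.eq, mul_assoc, hEE, mul_sub, mul_one, hEE, sub_self, add_zero]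
      have h2 : (1 - E) * w = 1 - E := by
        rw [hw, mul_add, ← mul_assoc, sub_mul, one_mul, ← hzE.eq, sub_mul, mul_assoc, hEE, sub_self, zero_add,
          mul_sub, mul_one, sub_mul, one_mul, hEE, sub_self, sub_zero]
      have h3 : (z * E) v = 0 := by rw [← h1, Module.End.mul_apply, hv, map_zero]
      have h4 : (1 - E) v = 0 := by rw [← h2, Module.End.mul_apply, hv, map_zero]
      have h5 : (h * E) v = 0 := by rw [← hzzE, mul_assoc, Module.End.mul_apply, h3, map_zero]
      have h6 : E v = 0 := ((Module.End.isUnit_iff h).mp hhu).1 (by rw [map_zero]; exact h5)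
      rw [LinearMap.sub_apply, h6, sub_zero] at h4
      exact h4
    exact ⟨hinj, LinearMap.injective_iff_surjective.mp hinj⟩
  obtain ⟨W, hW⟩ := hwu
  set wi : Module.End F V := ((W⁻¹ : (Module.End F V)ˣ) : Module.End F V) with hwi
  have hwwi : w * wi = 1 := by rw [hwi, ← hW, Units.mul_inv]
  have hwE : Commute w E := (hzE.mul_left (Commute.refl E)).add_left ((Commute.one_left E).sub_left (Commute.refl E))
  have hwA : Commute w A := (hzA.mul_left hcEA).add_left ((Commute.one_left A).sub_left hcEA)
  have hwiE : Commute wi E := (hW ▸ hwE).units_inv_left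
  have hwiA : Commute wi A := (hW ▸ hwA).units_inv_left
  refine ⟨E, X.toLinearMap ∘ₗ E ∘ₗ X.symm.toLinearMap, X.toLinearMap ∘ₗ wi, hEE, hSsa E₀, ?_, hcEA, hAA1,
    fun v => by simp, ?_, X.injective.comp ?_, ?_, ?_, ?_, ?_⟩
  · intro u v
    obtain ⟨u, rfl⟩ := X.surjective u
    obtain ⟨v, rfl⟩ := X.surjective v
    simp only [LinearMap.comp_apply, LinearEquiv.coe_coe, LinearEquiv.symm_apply_apply]
    have hhE : h (E u) = E (h u) := LinearMap.congr_fun (congrArg Subtype.val (mul_comm h₀ E₀)) u
    rw [← hhB, ← hhB, hhE, hSsa E₀]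
  · intro h2
    have h2E : (2 : Module.End F V) = 0 := by rw [← map_ofNat (algebraMap F (Module.End F V)) 2, h2, map_zero]
    have e : aeval A ((Polynomial.X - 1) * (1 - pt ^ n)) = A * (1 - E) - (1 - E) := by
      simp [hpE, sub_mul]
    refine sub_eq_zero.mp ?_
    rw [← e]
    refine aeval_eq_zero_of_isNilpotent hr hAr _ ⟨2, ?_⟩
    have hcE : Commute A (1 - E) := (Commute.one_right A).sub_right hcEA.symm
    have h11 : (1 - E) * (1 - E) = 1 - E := by rw [mul_sub, mul_one, sub_mul, one_mul, hEE, sub_self, sub_zero]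
    rw [e]
    generalize 1 - E = P at hcE h11 hAA1 ⊢
    have e1 : A * P * (A * P) = P := by
      rw [mul_assoc A P (A * P), ← mul_assoc P A P, ← hcE.eq, mul_assoc A P P, h11, hAA1]
    have e2 : A * P * P = A * P := by rw [mul_assoc, h11]
    have e3 : P * (A * P) = A * P := by rw [← mul_assoc, ← hcE.eq, e2]
    calc (A * P - P) ^ 2 = A * P * (A * P) - A * P * P - P * (A * P) + P * P := by rw [sq]; noncomm_ring
      _ = (2 : Module.End F V) * (P - A * P) := by rw [e1, e2, e3, h11, two_mul]; abel
      _ = 0 := by rw [h2E, zero_mul]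
  · exact fun x y hxy => by
      have := congrArg w hxy
      rwa [← Module.End.mul_apply, ← Module.End.mul_apply, hwwi] at this
  · intro v
    simp only [LinearMap.comp_apply, LinearEquiv.coe_coe]
    rw [← hX]
    exact congrArg X (LinearMap.congr_fun hwiA.eq v)
  · intro v
    simp only [LinearMap.comp_apply, LinearEquiv.coe_coe, LinearEquiv.symm_apply_apply]
    exact congrArg X (LinearMap.congr_fun hwiE.eq v)
  · intro u v
    have key : ∀ u v, B (X (E u)) (X (E v)) = B (w (E u)) (w (E v)) := fun u v => by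
      have hwEz : ∀ y, w (E y) = z (E y) := fun y => by
        have e : w * E = z * E := by rw [hw, add_mul, mul_assoc, hEE, sub_mul, one_mul, hEE, sub_self, add_zero]
        exact LinearMap.congr_fun e y
      rw [← hhB, hwEz, hwEz, hzadj]
      have e : z' (z (E v)) = h (E v) := LinearMap.congr_fun hzzE v
      rw [e, hhSA]
    have hmove : ∀ u, wi (E u) = E (wi u) := fun u => LinearMap.congr_fun hwiE.eq u
    simp only [LinearMap.comp_apply, LinearEquiv.coe_coe]
    rw [hmove, hmove, key, ← hmove, ← hmove]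
    exact congrArg₂ (fun x y => B x y) (LinearMap.congr_fun hwwi (E u)) (LinearMap.congr_fun hwwi (E v))
  · refine ⟨((t ^ (n - 1) : S) : Module.End F V) * ((s₀ + 2 : S) : Module.End F V) * (A - 1) * Ai * E, ?_, ?_⟩
    · have hkey : (A - 1) * (A - 1) * Ai = ((s₀ - 2 : S) : Module.End F V) := by
        simp only [AddSubgroupClass.coe_sub, s₀, hs]
        rw [show ((2 : S) : Module.End F V) = 2 from rfl, mul_assoc, sub_mul A 1 Ai, hAAi, one_mul, mul_sub, mul_one,
          sub_mul, hAAi, one_mul, ← one_add_one_eq_two]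
        abel
      have hcT : Commute (((t ^ (n - 1) : S) : Module.End F V) * ((s₀ + 2 : S) : Module.End F V)) (A - 1) :=
        (((hSA _).mul_left (hSA _))).sub_right (Commute.one_right _)
      rw [← mul_assoc, ← mul_assoc, ← mul_assoc, ← mul_assoc, mul_assoc (A - 1), ← hcT.eq, mul_assoc _ (A - 1) (A - 1),
        mul_assoc _ ((A - 1) * (A - 1)) Ai, hkey]
      have e : t ^ (n - 1) * (s₀ + 2) * (s₀ - 2) * E₀ = E₀ := by
        have h1 : t ^ (n - 1) * t = E₀ := by rw [← pow_succ, Nat.sub_add_cancel hn, hE₀]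
        rw [ht] at h1
        linear_combination E₀ * h1 + hE
      exact congrArg (fun x : S => (x : Module.End F V)) e
    · exact ((((hSA _).mul_left (hSA _)).mul_left ((Commute.refl A).sub_left (Commute.one_left A))).mul_left
        ((Commute.refl A).pow_left _)).mul_left hcEA

end CfsgLib.Classes.SemiConj
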