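import Cfsg.Agent.Lib.Classes.SemisimpleConj
import Cfsg.Agent.Lib.Forms.WittQuadratic

/-!
Semisimple isometries which are similar as linear maps are conjugate by an isometry, for alternating forms and
for odd order isometries of quadratic forms.
-/

set_option autoImplicit false
set_option linter.unusedSectionVars false

namespace CfsgLib.Classes.SemiConj

open Module

variable {F V : Type*} [Field F] [AddCommGroup V] [Module F V]

theorem isSA_one_sub {B : LinearMap.BilinForm F V} {E : Module.End F V} (hE : IsSA B E) : IsSA B (1 - E) :=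
  fun u v => by simp [hE u v]

theorem idem_one_sub {E : Module.End F V} (hE : E * E = E) : (1 - E) * (1 - E) = 1 - E := by
  rw [mul_sub, mul_one, sub_mul, one_mul, hE, sub_self, sub_zero]

/-- An isometry which squares to one on the range of a self-adjoint projection is self-adjoint there. -/
theorem isSA_mul {B : LinearMap.BilinForm F V} {A R : Module.End F V} (hA : ∀ u v, B (A u) (A v) = B u v)
    (hR : IsSA B R) (hRR : R * R = R) (hc : Commute R A) (h2 : A * (A * R) = R) : IsSA B (A * R) := by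
  intro u v
  have hRARf : ∀ w, R (A (R w)) = A (R w) := fun w => by
    have e : R * (A * R) = A * R := by rw [← mul_assoc, hc.eq, mul_assoc, hRR]
    exact LinearMap.congr_fun e w
  show B (A (R u)) v = B u (A (R v))
  calc B (A (R u)) v = B (A (R u)) (R v) := by rw [← hR, hRARf]
    _ = B (A (A (R u))) (A (R v)) := (hA _ _).symm
    _ = B (R u) (A (R v)) := by rw [show A (A (R u)) = R u from LinearMap.congr_fun h2 u]
    _ = B u (R (A (R v))) := hR _ _
    _ = B u (A (R v)) := by rw [hRARf]

variable [FiniteDimensional F V]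

/-- Non-degenerate ranges of the same dimension of an alternating form are isometric. -/
theorem exists_piece {B : LinearMap.BilinForm F V} (hB : B.Nondegenerate) (hA : B.IsAlt) {P P' : Module.End F V}
    (hP : P * P = P) (hP' : P' * P' = P') (hPs : IsSA B P) (hP's : IsSA B P') (X : V ≃ₗ[F] V)
    (hX : ∀ v, P' (X v) = X (P v)) :
    ∃ j : Module.End F V, P' * j = j ∧ j * P = j ∧ ∀ u v, B (j u) (j v) = B (P u) (P v) := by
  have hnd : ∀ R : Module.End F V, R * R = R → IsSA B R → (B.restrict (LinearMap.range R)).Nondegenerate := by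
    intro R hRR hR
    have key : ∀ x ∈ LinearMap.range R, (∀ y ∈ LinearMap.range R, B x y = 0) → x = 0 := by
      intro x hx h
      refine hB.1 x fun w => ?_
      obtain ⟨u, rfl⟩ := hx
      rw [← show R (R u) = R u from LinearMap.congr_fun hRR u, hR]
      exact h _ ⟨w, rfl⟩
    refine ⟨fun x h => Subtype.ext (key x x.2 fun y hy => h ⟨y, hy⟩), fun x h => Subtype.ext (key x x.2 fun y hy => ?_)⟩
    rw [← LinearMap.IsAlt.neg hA y x, show B y x = 0 from h ⟨y, hy⟩, neg_zero]
  have hdim : finrank F (LinearMap.range P) = finrank F (LinearMap.range P') := by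
    have : LinearMap.range P' = (LinearMap.range P).map (X : V →ₗ[F] V) := by
      ext y
      constructor
      · rintro ⟨v, rfl⟩
        obtain ⟨u, rfl⟩ := X.surjective v
        exact ⟨P u, ⟨u, rfl⟩, (hX u).symm⟩
      · rintro ⟨_, ⟨u, rfl⟩, rfl⟩
        exact ⟨X u, hX u⟩
    rw [this, LinearEquiv.finrank_map_eq]
  obtain ⟨e, he⟩ := CfsgLib.Forms.alt_isometric (B.restrict (LinearMap.range P)) (hnd P hP hPs) (fun x => hA x.1)
    (B.restrict (LinearMap.range P')) (hnd P' hP' hP's) (fun x => hA x.1) hdim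
  refine ⟨(LinearMap.range P').subtype ∘ₗ e.toLinearMap ∘ₗ P.rangeRestrict, LinearMap.ext fun v => ?_,
    LinearMap.ext fun v => ?_, fun u v => he _ _⟩
  · obtain ⟨u, hu⟩ := (e (P.rangeRestrict v)).2
    show P' (e (P.rangeRestrict v) : V) = (e (P.rangeRestrict v) : V)
    rw [← hu]
    exact LinearMap.congr_fun hP' u
  · show (e (P.rangeRestrict (P v)) : V) = (e (P.rangeRestrict v) : V)
    rw [show P.rangeRestrict (P v) = P.rangeRestrict v from Subtype.ext (LinearMap.congr_fun hP v)]

variable [Finite F]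

/-- Semisimple isometries of an alternating form: similar implies conjugate. -/
theorem exists_alt_conj {B : LinearMap.BilinForm F V} (hB : B.Nondegenerate) (hA : B.IsAlt) {A A' : Module.End F V}
    {r : ℕ} (hr : (r : F) ≠ 0) (hAr : A ^ r = 1) (hA'r : A' ^ r = 1) (hAB : ∀ u v, B (A u) (A v) = B u v)
    (hA'B : ∀ u v, B (A' u) (A' v) = B u v) (X : V ≃ₗ[F] V) (hX : ∀ v, X (A v) = A' (X v)) :
    ∃ g : V ≃ₗ[F] V, (∀ u v, B (g u) (g v) = B u v) ∧ ∀ v, g (A v) = A' (g v) := by
  obtain ⟨E, E', f, hEE, hEs, hE's, hEA, hAA, hE'X, h2, hfi, hfA, hfE, hfB, -⟩ :=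
    exists_partial hB (ε := -1) (fun u v => by rw [neg_one_mul, LinearMap.IsAlt.neg hA]) hr hAr hAB hA'B hA'r X hX
  have conj : ∀ T T' : Module.End F V, (∀ v, T (X v) = X (T' v)) → ∀ S S' : Module.End F V,
      (∀ v, S (X v) = X (S' v)) → ∀ v, (T * S) (X v) = X ((T' * S') v) := fun T T' hT S S' hS v => by
    rw [Module.End.mul_apply, hS, hT]; rfl
  have hXA : ∀ v, A' (X v) = X (A v) := fun v => (hX v).symm
  have hR : ∀ v, (1 - E') (X v) = X ((1 - E) v) := fun v => by simp [hE'X]
  have transfer : ∀ T T' : Module.End F V, (∀ v, T' (X v) = X (T v)) → ∀ S S' : Module.End F V,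
      (∀ v, S' (X v) = X (S v)) → T = S → T' = S' := fun T T' hT S S' hS hTS => LinearMap.ext fun w => by
    obtain ⟨v, rfl⟩ := X.surjective w
    rw [hT, hS, hTS]
  have hE'E' : E' * E' = E' := transfer _ _ (conj _ _ hE'X _ _ hE'X) _ _ hE'X hEE
  have hE'A' : Commute E' A' := transfer _ _ (conj _ _ hE'X _ _ hXA) _ _ (conj _ _ hXA _ _ hE'X) hEA.eq
  have hA'A' : A' * (A' * (1 - E')) = 1 - E' :=
    transfer _ _ (conj _ _ hXA _ _ (conj _ _ hXA _ _ hR)) _ _ hR hAA
  set R := 1 - E with hRdef
  set R' := 1 - E' with hR'def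
  have hRR : R * R = R := idem_one_sub hEE
  have hR'R' : R' * R' = R' := idem_one_sub hE'E'
  have hRA : Commute R A := (Commute.one_left A).sub_left hEA
  have hR'A' : Commute R' A' := (Commute.one_left A').sub_left hE'A'
  -- the two eigenspaces
  suffices hsplit : ∃ α β : F, ∃ γ δ : F, α + γ = 1 ∧ β + δ = 0 ∧
      (∀ (R A : Module.End F V), R * R = R → Commute R A → A * (A * R) = R → ((2 : F) = 0 → A * R = R) →
        (α • R + β • (A * R)) * (α • R + β • (A * R)) = α • R + β • (A * R) ∧
        (γ • R + δ • (A * R)) * (γ • R + δ • (A * R)) = γ • R + δ • (A * R) ∧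
        (α • R + β • (A * R)) * (γ • R + δ • (A * R)) = 0 ∧
        A * (α • R + β • (A * R)) = α • R + β • (A * R) ∧
        A * (γ • R + δ • (A * R)) = -(γ • R + δ • (A * R))) by
    obtain ⟨α, β, γ, δ, hαγ, hβδ, hprop⟩ := hsplit
    obtain ⟨hp, hm, hpm, hAp, hAm⟩ := hprop R A hRR hRA hAA h2
    obtain ⟨hp', hm', hpm', hAp', hAm'⟩ := hprop R' A' hR'R' hR'A' hA'A'
      (fun h => transfer _ _ (conj _ _ hXA _ _ hR) _ _ hR (h2 h))
    have hSAR := isSA_one_sub hEs
    have hSAR' := isSA_one_sub hE's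
    have hSAAR := isSA_mul hAB hSAR hRR hRA hAA
    have hSAAR' := isSA_mul hA'B hSAR' hR'R' hR'A' hA'A'
    have hsa : ∀ (a b : F) {T U : Module.End F V}, IsSA B T → IsSA B U → IsSA B (a • T + b • U) :=
      fun a b T U hT hU u v => by simp [hT u v, hU u v]
    have hXP : ∀ (a b : F) v, (a • R' + b • (A' * R')) (X v) = X ((a • R + b • (A * R)) v) := fun a b v => by
      simp only [LinearMap.add_apply, LinearMap.smul_apply, hR, conj _ _ hXA _ _ hR, map_add, map_smul]
    obtain ⟨j₁, hj₁', hj₁, hj₁B⟩ := exists_piece hB hA hp hp' (hsa α β hSAR hSAAR) (hsa α β hSAR' hSAAR') X (hXP α β)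
    obtain ⟨j₂, hj₂', hj₂, hj₂B⟩ := exists_piece hB hA hm hm' (hsa γ δ hSAR hSAAR) (hsa γ δ hSAR' hSAAR') X (hXP γ δ)
    set P := α • R + β • (A * R) with hP
    set M := γ • R + δ • (A * R) with hM
    set P' := α • R' + β • (A' * R') with hP'
    set M' := γ • R' + δ • (A' * R') with hM'
    have hsum : P + M = R := by
      rw [hP, hM, show α • R + β • (A * R) + (γ • R + δ • (A * R)) = (α + γ) • R + (β + δ) • (A * R) by
        rw [add_smul, add_smul]; abel, hαγ, hβδ, one_smul, zero_smul, add_zero]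
    set g : Module.End F V := f * E + (j₁ + j₂) with hg
    have hgB : ∀ u v, B (g u) (g v) = B u v := by
      have hsaP' := hsa α β hSAR' hSAAR'
      have hsaM' := hsa γ δ hSAR' hSAAR'
      have hRj : ∀ {T j : Module.End F V}, R' * T = T → T * j = j → R' * j = j := fun {T j} h1 h2 => by
        rw [← h2, ← mul_assoc, h1]
      have hR'P' : R' * P' = P' := by
        simp only [hP', mul_add, mul_smul_comm, hR'R', ← mul_assoc, hR'A'.eq]
        rw [mul_assoc, hR'R']
      have hR'M' : R' * M' = M' := by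
        simp only [hM', mul_add, mul_smul_comm, hR'R', ← mul_assoc, hR'A'.eq]
        rw [mul_assoc, hR'R']
      have hzero : ∀ {T U : Module.End F V}, IsSA B T → T * U = 0 → ∀ x y, B (T x) (U y) = 0 := fun {T U} hT h x y => by
        rw [hT, show T (U y) = 0 from LinearMap.congr_fun h y, map_zero]
      have c1 : ∀ x y, B (f (E x)) (j₁ y) = 0 := fun x y => by
        rw [hfE, ← show R' (j₁ y) = j₁ y from LinearMap.congr_fun (hRj hR'P' hj₁') y]
        exact hzero hE's (by rw [hR'def, mul_sub, mul_one, hE'E', sub_self]) _ _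
      have c2 : ∀ x y, B (f (E x)) (j₂ y) = 0 := fun x y => by
        rw [hfE, ← show R' (j₂ y) = j₂ y from LinearMap.congr_fun (hRj hR'M' hj₂') y]
        exact hzero hE's (by rw [hR'def, mul_sub, mul_one, hE'E', sub_self]) _ _
      have c3 : ∀ x y, B (j₁ x) (j₂ y) = 0 := fun x y => by
        rw [← show P' (j₁ x) = j₁ x from LinearMap.congr_fun hj₁' x, ← show M' (j₂ y) = j₂ y from LinearMap.congr_fun hj₂' y]
        exact hzero hsaP' hpm' _ _
      have swap : ∀ {x y}, B x y = 0 → B y x = 0 := fun {x y} h => by rw [← LinearMap.IsAlt.neg hA x y, h, neg_zero]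
      intro u v
      have hdec : ∀ x y, B x y = B (E x) (E y) + (B (P x) (P y) + B (M x) (M y)) := fun x y => by
        have hid : ∀ (T : Module.End F V), IsSA B T → T * T = T → B (T x) (T y) = B x (T y) := fun T hT h => by
          rw [hT, show T (T y) = T y from LinearMap.congr_fun h y]
        rw [hid E hEs hEE, hid P (hsa α β hSAR hSAAR) hp, hid M (hsa γ δ hSAR hSAAR) hm, ← map_add, ← map_add]
        congr 1
        rw [← LinearMap.add_apply P M, hsum, hRdef, LinearMap.sub_apply, Module.End.one_apply, add_sub_cancel]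
      simp only [hg, LinearMap.add_apply, Module.End.mul_apply, map_add, hfB, c1, c2, c3, swap (c1 _ _), swap (c2 _ _),
        swap (c3 _ _), hj₁B, hj₂B, add_zero, zero_add]
      rw [hdec u v]
    have hginj : Function.Injective g := (injective_iff_map_eq_zero g).mpr fun x hx => hB.1 x fun y => by
      rw [← hgB, hx, map_zero, LinearMap.zero_apply]
    refine ⟨LinearEquiv.ofBijective g ⟨hginj, LinearMap.injective_iff_surjective.mp hginj⟩, hgB, fun v => ?_⟩
    show g (A v) = A' (g v)
    have hjA : ∀ (σ : F) {T T' j : Module.End F V}, T' * j = j → j * T = j → Commute T A → A * T = σ • T →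
        A' * T' = σ • T' → j * A = A' * j := fun σ {T T' j} h1 h2 hc h3 h4 => by
      rw [← h2, mul_assoc, hc.eq, h3, mul_smul_comm, h2, ← h1, ← mul_assoc, h4, smul_mul_assoc, h1]
    have hPA : Commute P A := (hRA.smul_left α).add_left (((Commute.refl A).mul_left hRA).smul_left β)
    have hMA : Commute M A := (hRA.smul_left γ).add_left (((Commute.refl A).mul_left hRA).smul_left δ)
    have e1 := hjA 1 hj₁' hj₁ hPA (by rw [one_smul]; exact hAp) (by rw [one_smul]; exact hAp')
    have e2 := hjA (-1) hj₂' hj₂ hMA (by rw [neg_one_smul]; exact hAm) (by rw [neg_one_smul]; exact hAm')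
    have e0 : f * E * A = A' * (f * E) := by
      rw [mul_assoc, hEA.eq]
      exact LinearMap.ext fun w => hfA (E w)
    exact LinearMap.congr_fun (show g * A = A' * g by rw [hg, add_mul, add_mul, e0, e1, e2, mul_add, mul_add]) v
  by_cases hc : (2 : F) = 0
  · refine ⟨1, 0, 0, 0, by simp, by simp, fun R A hRR hRA hAA h2 => ?_⟩
    simp [hRR, h2 hc]
  · refine ⟨2⁻¹, 2⁻¹, 2⁻¹, -2⁻¹, by rw [← two_mul, mul_inv_cancel₀ hc], by simp, fun R A hRR hRA hAA _ => ?_⟩
    have e1 : R * (A * R) = A * R := by rw [← mul_assoc, hRA.eq, mul_assoc, hRR]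
    have e2 : A * R * R = A * R := by rw [mul_assoc, hRR]
    have e3 : A * R * (A * R) = R := by rw [mul_assoc, e1, hAA]
    have hh : (2 : F)⁻¹ * 2⁻¹ + 2⁻¹ * 2⁻¹ = 2⁻¹ := by field_simp; norm_num
    simp only [mul_add, add_mul, mul_smul_comm, smul_mul_assoc, hRR, e1, e2, e3, hAA]
    refine ⟨?_, ?_, ?_, ?_, ?_⟩ <;> match_scalars <;> first | (field_simp; ring) | field_simp

/-- Semisimple isometries of odd order of a quadratic form: similar implies conjugate. -/
theorem exists_quad_conj {Q : QuadraticForm F V} (hQ : (QuadraticMap.polarBilin Q).Nondegenerate)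
    {A A' : Module.End F V} {r : ℕ} (hr : (r : F) ≠ 0) (hodd : Odd r) (hAr : A ^ r = 1) (hA'r : A' ^ r = 1)
    (hAQ : ∀ v, Q (A v) = Q v) (hA'Q : ∀ v, Q (A' v) = Q v) (X : V ≃ₗ[F] V) (hX : ∀ v, X (A v) = A' (X v)) :
    ∃ g : V ≃ₗ[F] V, (∀ v, Q (g v) = Q v) ∧ ∀ v, g (A v) = A' (g v) := by
  set B := QuadraticMap.polarBilin Q with hB
  have hpol : ∀ (T : Module.End F V), (∀ v, Q (T v) = Q v) → ∀ u v, B (T u) (T v) = B u v := fun T hT u v => by
    simp [hB, QuadraticMap.polar, ← map_add, hT]
  obtain ⟨E, E', f, hEE, hEs, hE's, hEA, hAA, hE'X, -, hfi, hfA, hfE, hfB, U, hU, hUA⟩ :=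
    exists_partial hQ (ε := 1) (fun u v => by rw [one_mul]; simp [hB, QuadraticMap.polar_comm]) hr hAr
      (hpol A hAQ) (hpol A' hA'Q) hA'r X hX
  have hA1 : A * (1 - E) = 1 - E := by
    obtain ⟨k, rfl⟩ := hodd
    have hk : ∀ k, A ^ (2 * k) * (1 - E) = 1 - E := fun k => by
      induction k with
      | zero => simp
      | succ k ih => rw [mul_add, pow_add, mul_assoc, mul_one, sq, mul_assoc, hAA, ih]
    conv_lhs => rw [← hk k, ← mul_assoc, ← pow_succ', hAr, one_mul]
  have hfQ : ∀ v, Q (f (E v)) = Q (E v) := by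
    let D : V →+ F := AddMonoidHom.mk' (fun v => Q (f (E v)) - Q (E v)) fun u v => by
      simp only [map_add]
      rw [QuadraticMap.map_add Q (f (E u)), QuadraticMap.map_add Q (E u)]
      have := hfB u v
      simp only [hB, QuadraticMap.polarBilin_apply_apply] at this
      rw [this]; ring
    have hDA : ∀ v, D (A v) = D v := fun v => by
      show Q (f (E (A v))) - Q (E (A v)) = _
      rw [show E (A v) = A (E v) from LinearMap.congr_fun hEA.eq v, hfA, hAQ, hA'Q]
      rfl
    intro v
    have h1 : D (E v) = 0 := by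
      rw [← show (A - 1) (U v) = E v from LinearMap.congr_fun hU v, LinearMap.sub_apply, Module.End.one_apply,
        map_sub, hDA, sub_self]
    have h2 : Q (f (E (E v))) - Q (E (E v)) = 0 := h1
    rw [show E (E v) = E v from LinearMap.congr_fun hEE v] at h2
    exact sub_eq_zero.mp h2
  obtain ⟨g, hg, hgx⟩ := CfsgLib.Forms.witt_extension_quadratic Q hQ (LinearMap.range E)
    (f ∘ₗ (LinearMap.range E).subtype) (hfi.comp Subtype.val_injective) (by rintro ⟨_, v, rfl⟩; exact hfQ v)
  refine ⟨g, hg, fun v => ?_⟩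
  have hgE : ∀ w, g (E w) = f (E w) := fun w => hgx ⟨E w, w, rfl⟩
  have hsurj : Function.Surjective f := LinearMap.injective_iff_surjective.mp hfi
  have hz : ∀ w, A' (g ((1 - E) w)) = g ((1 - E) w) := fun w => by
    have h0 : E' (g ((1 - E) w)) = 0 := hQ.1 _ fun y => by
      obtain ⟨z, rfl⟩ := hsurj y
      show B _ (f z) = 0
      rw [hE's, ← hfE, ← hgE]
      have e := hpol g.toLinearMap hg ((1 - E) w) (E z)
      simp only [LinearEquiv.coe_coe] at e
      rw [e, ← hEs,
        show E ((1 - E) w) = 0 by simp [show E (E w) = E w from LinearMap.congr_fun hEE w],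
        map_zero, LinearMap.zero_apply]
    obtain ⟨u, hu⟩ := X.surjective (g ((1 - E) w))
    rw [← hu, hE'X, X.map_eq_zero_iff] at h0
    have hAu := LinearMap.congr_fun hA1 u
    simp only [Module.End.mul_apply, LinearMap.sub_apply, Module.End.one_apply, h0, sub_zero] at hAu
    rw [← hu, ← hX, hAu]
  have hv : v = E v + (1 - E) v := by simp
  rw [hv, map_add A, map_add g, map_add g, map_add A', hgE,
    show A ((1 - E) v) = (1 - E) v from LinearMap.congr_fun hA1 v, hz,
    show A (E v) = E (A v) from (LinearMap.congr_fun hEA.eq v).symm, hgE,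
    show E (A v) = A (E v) from LinearMap.congr_fun hEA.eq v, hfA]

end CfsgLib.Classes.SemiConj
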